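import Groth.Agent.AVRat.AxesSingular
import Groth.Agent.AVRat.SquareRel
import Groth.Agent.AVRat.ConnChain
import Groth.Agent.PicRoot.Family
import Groth.Agent.ParaFLib.Ext
import Groth.Agent.FlatHartogs.Normal
import Groth.Agent.GeomProp.SmoothPoint

/-!
On a normal variety, classes algebraically equivalent to zero are invariant under connected group actions.
-/

set_option autoImplicit false
set_option backward.isDefEq.respectTransparency false
set_option backward.isDefEq.respectTransparency.types false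
set_option linter.style.haveILetI false
set_option linter.unusedSectionVars false
set_option maxHeartbeats 1000000
set_option synthInstance.maxHeartbeats 200000

universe u

open CategoryTheory CategoryTheory.Limits MonoidalCategory CartesianMonoidalCategory MonObj AlgebraicGeometry
open IsLocalRing TopologicalSpace
open Groth.Agent.W7Cube (pull pull_pull pull_cls)
open Groth.Agent.AVRat (fib fib_map pt val3 Rel pull_val3 val3_map pt_comp comp_pt)

noncomputable section

namespace Groth.Agent.NormAct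

attribute [local instance] W7Cube.law

variable {k : Type u} [Field k] [IsAlgClosed k]

/-- classes trivial on a big open of a normal scheme are trivial -/
theorem eq_one_of_pull {X Z : Scheme.{u}} (j : Z ⟶ X) [IsOpenImmersion j] [QuasiCompact j.opensRange.ι]
    (hbig : ∀ z : X, z ∉ j.opensRange → (IsDomain (X.presheaf.stalk z) ∧ IsIntegrallyClosed (X.presheaf.stalk z) ∧
      IsNoetherianRing (X.presheaf.stalk z)) ∧ (2 : WithBot ℕ∞) ≤ ringKrullDim (X.presheaf.stalk z))
    (c : PicLoc.PicSet X) (hc : pull j c = 1) : c = 1 := by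
  obtain ⟨L, hL, rfl⟩ := PicGrp.exists_eq_cls c
  rw [pull_cls, PicGrp.cls_eq_one_iff] at hc
  obtain ⟨i⟩ := hc
  have hO : ParaFLib.SecBij j.opensRange (Coh.structureModule X) := by
    refine ParaFLib.secBij_of_local _ _ fun x => ?_
    obtain ⟨N, hN, hxN, -⟩ := exists_isAffineOpen_mem_and_subset (show x ∈ (⊤ : X.Opens) from trivial)
    refine ⟨N, hxN, fun V hV => ?_⟩
    refine ⟨fun s t h => FlatHartogs.Normal.eq_of_res hbig h, fun s => ?_⟩
    have hcov : ∀ v : V, ∃ W : X.Opens, IsAffineOpen W ∧ v.1 ∈ W ∧ W ≤ V := fun v => by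
      obtain ⟨W, hW, hvW, hWV⟩ := exists_isAffineOpen_mem_and_subset v.2
      exact ⟨W, hW, hvW, hWV⟩
    choose W hW hvW hWV using hcov
    choose t ht using fun v => (FlatHartogs.Normal.bijective_res hbig (hW v)).2
      (X.presheaf.map (homOfLE (inf_le_inf_right _ (hWV v)) : W v ⊓ j.opensRange ⟶ V ⊓ j.opensRange).op s)
    have hcomp : TopCat.Presheaf.IsCompatible X.sheaf.1 W t := by
      intro a b
      apply FlatHartogs.Normal.eq_of_res hbig
      have e : ∀ v, ∀ hv : W a ⊓ W b ≤ W v,
          X.presheaf.map (homOfLE inf_le_left : W a ⊓ W b ⊓ j.opensRange ⟶ W a ⊓ W b).op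
              (X.presheaf.map (homOfLE hv).op (t v)) =
            X.presheaf.map (homOfLE (inf_le_inf_right _ (hv.trans (hWV v)))).op s := by
        intro v hv
        have h := congrArg (X.presheaf.map
          (homOfLE (inf_le_inf_right _ hv) : W a ⊓ W b ⊓ j.opensRange ⟶ W v ⊓ j.opensRange).op) (ht v)
        simp only [← CommRingCat.comp_apply, ← Functor.map_comp] at h ⊢
        exact h
      exact (e a inf_le_left).trans (e b inf_le_right).symm
    obtain ⟨t₀, ht₀, -⟩ := X.sheaf.existsUnique_gluing' W V (fun v => homOfLE (hWV v))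
      (fun z hz => Opens.mem_iSup.2 ⟨⟨z, hz⟩, hvW ⟨z, hz⟩⟩) t hcomp
    refine ⟨t₀, ?_⟩
    refine TopCat.Presheaf.section_ext X.sheaf _ _ _ fun z hz => ?_
    have h1 := congrArg (X.presheaf.germ (W ⟨z, hz.1⟩ ⊓ j.opensRange) z ⟨hvW ⟨z, hz.1⟩, hz.2⟩) (ht ⟨z, hz.1⟩)
    rw [← ht₀ ⟨z, hz.1⟩] at h1
    calc _ = X.presheaf.germ V z hz.1 t₀ := X.presheaf.germ_res_apply _ z hz t₀
      _ = X.presheaf.germ (W ⟨z, hz.1⟩) z (hvW ⟨z, hz.1⟩) (X.presheaf.map (homOfLE (hWV ⟨z, hz.1⟩)).op t₀) :=
        (X.presheaf.germ_res_apply _ z _ t₀).symm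
      _ = X.presheaf.germ (W ⟨z, hz.1⟩ ⊓ j.opensRange) z ⟨hvW ⟨z, hz.1⟩, hz.2⟩ (X.presheaf.map (homOfLE inf_le_left).op
          (X.presheaf.map (homOfLE (hWV ⟨z, hz.1⟩)).op t₀)) := (X.presheaf.germ_res_apply _ z _ _).symm
      _ = _ := h1.trans (X.presheaf.germ_res_apply _ z _ s)
  let e₀ : L.restrict j ≅ (Coh.structureModule X).restrict j :=
    (Scheme.Modules.restrictFunctorIsoPullback j).app L ≪≫ i ≪≫
      (PicLoc.pullbackStructureIso j).symm ≪≫ ((Scheme.Modules.restrictFunctorIsoPullback j).app _).symm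
  have hone : PicF.IsInvertible (Coh.structureModule X) := TMul.isInvertible_structureModule
  obtain ⟨φ, hφ⟩ := (ParaFLib.bijective_restrict_hom j hO L hone).2 e₀.hom
  obtain ⟨ψ, hψ⟩ := (ParaFLib.bijective_restrict_hom j hO (Coh.structureModule X) hL).2 e₀.inv
  simp only at hφ hψ
  refine (PicGrp.cls_eq_one_iff hL).2 ⟨⟨φ, ψ, ?_, ?_⟩⟩
  · refine (ParaFLib.bijective_restrict_hom j hO L hL).1 ?_
    simp only [Functor.map_comp, hφ, hψ, Iso.hom_inv_id, CategoryTheory.Functor.map_id]
  · refine (ParaFLib.bijective_restrict_hom j hO (Coh.structureModule X) hone).1 ?_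
    simp only [Functor.map_comp, hφ, hψ, Iso.inv_hom_id, CategoryTheory.Functor.map_id]

/-- a normal noetherian local domain of dimension at most one is regular -/
theorem isRegularLocalRing_of_dim_le_one {R : Type u} [CommRing R] [IsLocalRing R] [IsDomain R]
    [IsIntegrallyClosed R] [IsNoetherianRing R] (h : ringKrullDim R ≤ 1) : IsRegularLocalRing R := by
  haveI : Ring.KrullDimLE 1 R := ⟨h⟩
  haveI : Ring.DimensionLEOne R := ⟨fun {p} hp hprime => Ring.krullDimLE_one_iff_of_noZeroDivisors.mp ‹Ring.KrullDimLE 1 R› _ hp hprime⟩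
  haveI : IsDedekindDomain R := {}
  haveI : IsPrincipalIdealRing R := inferInstance
  infer_instance

set_option maxHeartbeats 4000000 in
/-- **the square relation with a normal third factor** -/
theorem rel_normal {C D : Over (Spec (CommRingCat.of k))} [IsIntegral C.left] [Smooth C.hom] [IsSeparated C.hom]
    [QuasiCompact C.hom] (hC : topologicalKrullDim C.left = 1) [IsIntegral D.left] [Smooth D.hom]
    [IsSeparated D.hom] [QuasiCompact D.hom] (hD : topologicalKrullDim D.left = 1)
    (X : Over (Spec (CommRingCat.of k))) [IsIntegral X.left] [LocallyOfFiniteType X.hom] [IsSeparated X.hom]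
    [QuasiCompact X.hom] (hn : Pi1.IsNormalScheme X.left)
    (c : PicLoc.PicSet (C ⊗ D ⊗ X).left) (a₀ a₁ : AVDeg.one' k ⟶ C) (b₀ b₁ : AVDeg.one' k ⟶ D) :
    Rel c a₀ a₁ b₀ b₁ := by
  haveI : LocallyOfFinitePresentation X.hom :=
    (LocallyOfFinitePresentation.iff_locallyOfFiniteType (f := X.hom)).2 inferInstance
  haveI : IsLocallyNoetherian X.left := LocallyOfFiniteType.isLocallyNoetherian X.hom
  haveI : CompactSpace X.left := QuasiCompact.compactSpace_of_compactSpace X.hom
  haveI : IsNoetherian X.left := {}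
  let O := X.hom.smoothLocus
  have hgen : genericPoint X.left ∈ O :=
    GeomProp.mem_smoothLocus_of_regular_perfect X.hom (by
      let _ : Field (X.left.presheaf.stalk (genericPoint X.left)) := inferInstanceAs (Field X.left.functionField)
      infer_instance)
  haveI hsm : Smooth (O.ι ≫ X.hom) := by
    rw [← Scheme.Hom.smoothLocus_eq_top_iff, ← Scheme.Hom.preimage_smoothLocus_eq]
    exact Scheme.Opens.ι_preimage_self O
  let U : Over (Spec (CommRingCat.of k)) := Over.mk (O.ι ≫ X.hom)
  let j : U ⟶ X := Over.homMk O.ι rfl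
  haveI : IsOpenImmersion j.left := inferInstanceAs (IsOpenImmersion O.ι)
  haveI : Nonempty U.left := ⟨(⟨_, hgen⟩ : O)⟩
  haveI : IsIntegral U.left := isIntegral_of_isOpenImmersion j.left
  haveI : Smooth U.hom := hsm
  haveI : IsSeparated U.hom := inferInstanceAs (IsSeparated (O.ι ≫ X.hom))
  haveI : QuasiCompact U.hom := inferInstanceAs (QuasiCompact (O.ι ≫ X.hom))
  haveI : JacobsonSpace U.left := LocallyOfFiniteType.jacobsonSpace U.hom
  obtain ⟨x, -, hx⟩ := nonempty_inter_closedPoints (Z := (Set.univ : Set U.left)) Set.univ_nonempty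
    isOpen_univ.isLocallyClosed
  obtain ⟨p, -⟩ := AVRat.exists_point hx
  haveI : GeometricallyIntegral U.hom := AVRat.geometricallyIntegral_of_point p
  haveI : QuasiCompact j.left.opensRange.ι := inferInstance
  have hbig : ∀ z : X.left, z ∉ j.left.opensRange → (IsDomain (X.left.presheaf.stalk z) ∧
      IsIntegrallyClosed (X.left.presheaf.stalk z) ∧ IsNoetherianRing (X.left.presheaf.stalk z)) ∧
      (2 : WithBot ℕ∞) ≤ ringKrullDim (X.left.presheaf.stalk z) := by
    intro z hz
    obtain ⟨h1, h2⟩ := hn z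
    refine ⟨⟨h1, h2, inferInstance⟩, ?_⟩
    by_contra h
    apply hz
    rw [show j.left.opensRange = O from Scheme.Opens.opensRange_ι O]
    haveI := h1
    haveI := h2
    refine GeomProp.mem_smoothLocus_of_regular_perfect X.hom (isRegularLocalRing_of_dim_le_one ?_)
    exact Order.le_of_lt_succ (not_le.1 h)
  have h := AVRat.rel_of_curves (W := U) hC hD (pull (𝟙 C ⊗ₘ (𝟙 D ⊗ₘ j)).left c) a₀ a₁ b₀ b₁
  have e : ∀ (a : AVDeg.one' k ⟶ C) (b : AVDeg.one' k ⟶ D),
      val3 (pull (𝟙 C ⊗ₘ (𝟙 D ⊗ₘ j)).left c) (pt U a) (pt U b) (𝟙 U) = pull j.left (val3 c (pt X a) (pt X b) (𝟙 X)) := by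
    intro a b
    rw [pull_val3, val3, val3, pull_pull, ← Over.comp_left, lift_map, lift_map]
    simp only [Category.comp_id, Category.id_comp, comp_pt]
  rw [AVRat.Rel, e, e, e, e, ← map_mul, ← map_mul] at h
  rw [AVRat.Rel]
  refine mul_inv_eq_one.1 (eq_one_of_pull j.left hbig _ ?_)
  rw [map_mul, map_inv, h, mul_inv_cancel]

set_option maxHeartbeats 4000000 in
/-- **connected groups fix algebraically trivial classes** -/
theorem translate_eq {G X : Over (Spec (CommRingCat.of k))} [LocallyOfFiniteType G.hom] [ConnectedSpace G.left]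
    [IsIntegral X.left] [LocallyOfFiniteType X.hom] [IsSeparated X.hom] [QuasiCompact X.hom]
    (hn : Pi1.IsNormalScheme X.left) (act : G ⊗ X ⟶ X) (e g : AVDeg.one' k ⟶ G)
    (hone : lift (pt X e) (𝟙 X) ≫ act = 𝟙 X) {c : PicLoc.PicSet X.left} (hc : PicRoot.AlgCl X c) :
    pull (lift (pt X g) (𝟙 X) ≫ act).left c = c := by
  obtain ⟨T, d, t, t₀, hT, hlft, -, rfl, h0⟩ := hc
  haveI := hT
  haveI := hlft
  have hF : AVRat.ConstOnCurves fun s : AVDeg.one' k ⟶ G => pull (lift (pt X s) (𝟙 X) ≫ act).left (fib d t) := by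
    intro D hD f x₀ x₁ h1 h2 h3 h4
    haveI := h1; haveI := h2; haveI := h3
    have hH : AVRat.ConstOnCurves fun s : AVDeg.one' k ⟶ T =>
        pull (lift (pt X (x₁ ≫ f)) (𝟙 X) ≫ act).left (fib d s) *
          (pull (lift (pt X (x₀ ≫ f)) (𝟙 X) ≫ act).left (fib d s))⁻¹ := by
      intro D' hD' f' y₀ y₁ g1 g2 g3 g4
      haveI := g1; haveI := g2; haveI := g3
      let Φ : D ⊗ D' ⊗ X ⟶ X ⊗ T :=
        lift (lift (fst D (D' ⊗ X) ≫ f) (snd D (D' ⊗ X) ≫ snd D' X) ≫ act) (snd D (D' ⊗ X) ≫ fst D' X ≫ f')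
      have hv : ∀ (x : AVDeg.one' k ⟶ D) (y : AVDeg.one' k ⟶ D'),
          val3 (pull Φ.left d) (pt X x) (pt X y) (𝟙 X) =
            pull (lift (pt X (x ≫ f)) (𝟙 X) ≫ act).left (fib d (y ≫ f')) := by
        intro x y
        rw [val3, fib, pull_pull, pull_pull, ← Over.comp_left, ← Over.comp_left]
        refine congrArg (fun q => pull (Over.Hom.left q) d) ?_
        apply CartesianMonoidalCategory.hom_ext
        · simp only [Φ, Category.assoc, lift_fst, comp_lift_assoc, lift_snd_assoc, lift_fst_assoc, pt_comp, lift_snd,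
            Category.comp_id]
        · simp only [Φ, Category.assoc, lift_snd, lift_snd_assoc, lift_fst_assoc, pt_comp, comp_pt]
      have r := rel_normal h4 g4 X hn (pull Φ.left d) x₁ x₀ y₀ y₁
      simp only [AVRat.Rel, hv] at r
      beta_reduce
      rw [← div_eq_mul_inv, ← div_eq_mul_inv, div_eq_div_iff_mul_eq_mul]
      exact r
    have h := hH.eq t t₀
    rw [h0, map_one, map_one, inv_one, _root_.mul_one, mul_inv_eq_one] at h
    exact h.symm
  have h := hF.eq g e
  rw [hone] at h
  exact h.trans (PicGrp.pullHom_id_apply _ _)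

end Groth.Agent.NormAct
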